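import Mathlib

/-!
# Descent of algebras along a faithfully flat ring map
-/

set_option autoImplicit false
universe u
open scoped TensorProduct
open Algebra.TensorProduct

namespace Groth.Agent.RadDescent

variable {A A' B : Type u} [CommRing A] [CommRing A'] [CommRing B] [Algebra A A'] [Algebra A' B] [Algebra A B]
  [IsScalarTower A A' B] (β : B →ₐ[A] B ⊗[A] A')

/-- The invariants of a descent structure. -/
def invariants : Subalgebra A B := AlgHom.equalizer includeLeft β

variable (hA' : ∀ a : A', β (algebraMap A' B a) = 1 ⊗ₜ a)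
  (hμ : ∀ b : B, Algebra.TensorProduct.lift (AlgHom.id A B) (IsScalarTower.toAlgHom A A' B)
    (fun _ _ => Commute.all _ _) (β b) = b)
  (hco : ∀ b : B, Algebra.TensorProduct.map (includeLeft : B →ₐ[A] B ⊗[A] A') (AlgHom.id A A') (β b) =
    Algebra.TensorProduct.map β (AlgHom.id A A') (β b))

include hA' hμ hco in
theorem bijective_mul [Module.Flat A A'] :
    Function.Bijective (Algebra.TensorProduct.lift (IsScalarTower.toAlgHom A A' B) (invariants β).val
      (fun _ _ => Commute.all _ _) : A' ⊗[A] invariants β → B) := by
  let m : A' ⊗[A] invariants β →ₐ[A] B := Algebra.TensorProduct.lift (IsScalarTower.toAlgHom A A' B) (invariants β).val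
    (fun _ _ => Commute.all _ _)
  let μ := Algebra.TensorProduct.lift (AlgHom.id A B) (IsScalarTower.toAlgHom A A' B) (fun _ _ => Commute.all _ _)
  let d : B →ₗ[A] B ⊗[A] A' := (includeLeft : B →ₐ[A] B ⊗[A] A').toLinearMap - β.toLinearMap
  let K := (invariants β).toSubmodule
  have hK : ∀ b, b ∈ K ↔ d b = 0 := fun b => by
    simp [K, d, invariants, AlgHom.mem_equalizer, sub_eq_zero]
  let j : A' ⊗[A] invariants β →ₗ[A] B ⊗[A] A' :=
    K.subtype.rTensor A' ∘ₗ (TensorProduct.comm A A' K).toLinearMap
  have hj : Function.Injective j :=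
    (Module.Flat.rTensor_preserves_injective_linearMap K.subtype K.injective_subtype).comp
      (TensorProduct.comm A A' K).injective
  have hβm : ∀ y, β (m y) = j y := fun y => by
    induction y using TensorProduct.induction_on with
    | zero => simp
    | add y z h1 h2 => simp only [map_add, h1, h2]
    | tmul a b =>
      have hb : β b.1 = b.1 ⊗ₜ 1 := (b.2 : includeLeft b.1 = β b.1).symm
      show β (algebraMap A' B a * b.1) = b.1 ⊗ₜ a
      rw [map_mul, hA', hb, tmul_mul_tmul, one_mul, mul_one]
  refine ⟨fun y z h => hj ?_, fun b => ?_⟩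
  · rw [← hβm, ← hβm, show m y = m z from h]
  · have hex : Function.Exact (K.subtype.rTensor A') (d.rTensor A') := by
      refine Module.Flat.rTensor_exact A' ?_
      intro x
      rw [← hK]
      exact ⟨fun hx => ⟨⟨x, hx⟩, rfl⟩, fun ⟨y, hy⟩ => hy ▸ y.2⟩
    have h0 : d.rTensor A' (β b) = 0 := by
      rw [LinearMap.rTensor_sub, LinearMap.sub_apply, sub_eq_zero]
      have e : ∀ (F : B →ₐ[A] B ⊗[A] A') (z : B ⊗[A] A'), F.toLinearMap.rTensor A' z =
          Algebra.TensorProduct.map F (AlgHom.id A A') z := fun F z => by
        induction z using TensorProduct.induction_on with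
        | zero => simp
        | add y z h1 h2 => simp only [map_add, h1, h2]
        | tmul x a => simp
      rw [e, e]
      exact hco b
    obtain ⟨y, hy⟩ := (hex (β b)).mp h0
    refine ⟨TensorProduct.comm A K A' y, ?_⟩
    have : β (m (TensorProduct.comm A K A' y)) = β b := by
      rw [hβm, ← hy]
      show K.subtype.rTensor A' (TensorProduct.comm A A' K (TensorProduct.comm A K A' y)) = _
      congr 1
      exact (TensorProduct.comm A K A').symm_apply_apply y
    rw [← hμ (m (TensorProduct.comm A K A' y)), this, hμ]

end Groth.Agent.RadDescent
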