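import Groth.Prelude.Def_Desc
import Groth.Agent.RadDescent.Ring

/-!
# Quotients of affine opens under a descent datum along a radicial covering
-/

set_option autoImplicit false
set_option backward.isDefEq.respectTransparency false
set_option backward.isDefEq.respectTransparency.types false
set_option linter.style.haveILetI false
universe u
open CategoryTheory CategoryTheory.Limits AlgebraicGeometry
open scoped TensorProduct

namespace Groth.Agent.RadDescent

variable {S' S : Scheme.{u}} {g : S' ⟶ S} (D : Desc.SchDD g)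

theorem φ_nat {T T' : Scheme.{u}} (t : T' ⟶ T) (x₀ x₁ : T ⟶ S') (h : x₀ ≫ g = x₁ ≫ g) (y₀ y₁ : T' ⟶ S')
    (h0 : t ≫ x₀ = y₀) (h1 : t ≫ x₁ = y₁) (h' : y₀ ≫ g = y₁ ≫ g) (v : Desc.Lifts D.obj x₀)
    (v' : Desc.Lifts D.obj y₀) (hv : v'.1 = t ≫ v.1) : (D.φ y₀ y₁ h' v').1 = t ≫ (D.φ x₀ x₁ h v).1 := by
  subst h0 h1
  exact D.φ_natural t x₀ x₁ h h' v v' hv

variable [Surjective g] [UniversallyInjective g]

theorem φ_apply {T : Scheme.{u}} (x₀ x₁ : T ⟶ S') (h : x₀ ≫ g = x₁ ≫ g) (v : Desc.Lifts D.obj x₀) (t : T) :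
    (D.φ x₀ x₁ h v).1 t = v.1 t := by
  let a := D.obj.hom ≫ g
  let q := D.φ (pullback.fst a g ≫ D.obj.hom) (pullback.snd a g)
    ((Category.assoc _ _ _).trans pullback.condition) ⟨pullback.fst a g, rfl⟩
  let Δ : D.obj.left ⟶ pullback a g := pullback.lift (𝟙 _) D.obj.hom (by simp [a])
  have hΔ : Δ ≫ q.1 = 𝟙 _ := by
    have := φ_nat D Δ _ _ ((Category.assoc _ _ _).trans pullback.condition) D.obj.hom D.obj.hom
      ((pullback.lift_fst_assoc _ _ _ _).trans (Category.id_comp _)) (pullback.lift_snd _ _ _) rfl ⟨pullback.fst a g, rfl⟩ ⟨𝟙 _, Category.id_comp _⟩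
      (pullback.lift_fst _ _ _).symm
    rw [D.φ_self] at this
    exact this.symm
  haveI : UniversallyInjective (pullback.fst a g) :=
    MorphismProperty.of_isPullback (P := @UniversallyInjective) (IsPullback.of_hasPullback a g).flip ‹_›
  have hq : ∀ p : ↥(pullback a g), q.1 p = pullback.fst a g p := fun p => by
    have hp : Δ (pullback.fst a g p) = p := (pullback.fst a g).injective (by
      have hΔ1 : Δ ≫ pullback.fst a g = 𝟙 _ := pullback.lift_fst _ _ _
      rw [← Scheme.Hom.comp_apply, hΔ1]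
      rfl)
    conv_lhs => rw [← hp, ← Scheme.Hom.comp_apply, hΔ]
    rfl
  obtain ⟨v, rfl⟩ := v
  let l : T ⟶ pullback a g := pullback.lift v x₁ ((Category.assoc _ _ _).symm.trans h)
  have e := φ_nat D l _ _ ((Category.assoc _ _ _).trans pullback.condition) (v ≫ D.obj.hom) x₁
    (by simp [l]) (pullback.lift_snd _ _ _) h ⟨pullback.fst a g, rfl⟩ ⟨v, rfl⟩ (pullback.lift_fst _ _ _).symm
  rw [e, Scheme.Hom.comp_apply, hq, ← Scheme.Hom.comp_apply]
  have hl : l ≫ pullback.fst a g = v := pullback.lift_fst _ _ _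
  rw [hl]

variable [Flat g]

theorem exists_quotient (S₀ : S.Opens) (hS₀ : IsAffineOpen S₀) (hS₀' : IsAffineOpen (g ⁻¹ᵁ S₀))
    (W : D.obj.left.Opens) (hW : IsAffineOpen W) (hWS : W ≤ D.obj.hom ⁻¹ᵁ (g ⁻¹ᵁ S₀)) :
    ∃ (U₀ : Scheme.{u}) (h₀ : U₀ ⟶ S) (π : W.toScheme ⟶ U₀),
      IsPullback π (W.ι ≫ D.obj.hom) h₀ g ∧
      ∀ {T : Scheme.{u}} (x₀ x₁ : T ⟶ S') (h : x₀ ≫ g = x₁ ≫ g) (v : Desc.Lifts D.obj x₀)
        (z z' : T ⟶ W.toScheme), z ≫ W.ι = v.1 → z' ≫ W.ι = (D.φ x₀ x₁ h v).1 → z ≫ π = z' ≫ π := by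
  let k := g.appLE S₀ (g ⁻¹ᵁ S₀) le_rfl
  let i := D.obj.hom.appLE (g ⁻¹ᵁ S₀) W hWS
  letI : Algebra Γ(S, S₀) Γ(S', g ⁻¹ᵁ S₀) := k.hom.toAlgebra
  letI : Algebra Γ(S', g ⁻¹ᵁ S₀) Γ(D.obj.left, W) := i.hom.toAlgebra
  letI : Algebra Γ(S, S₀) Γ(D.obj.left, W) := (k ≫ i).hom.toAlgebra
  haveI : IsScalarTower Γ(S, S₀) Γ(S', g ⁻¹ᵁ S₀) Γ(D.obj.left, W) := IsScalarTower.of_algebraMap_eq' rfl
  let A := Γ(S, S₀)
  let A' := Γ(S', g ⁻¹ᵁ S₀)
  let B := Γ(D.obj.left, W)
  let jA := hS₀.fromSpec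
  let jA' := hS₀'.fromSpec
  let jB := hW.fromSpec
  have eq1 : Spec.map k ≫ jA = jA' ≫ g := hS₀.SpecMap_appLE_fromSpec g hS₀' le_rfl
  have eq2 : Spec.map i ≫ jA' = jB ≫ D.obj.hom := hS₀'.SpecMap_appLE_fromSpec D.obj.hom hW hWS
  haveI : Flat (Spec.map k) := by
    refine MorphismProperty.of_postcomp (W := @Flat) (W' := MorphismProperty.monomorphisms Scheme) _ jA
      (inferInstanceAs (Mono jA)) ?_
    rw [eq1]
    infer_instance
  haveI : Module.Flat A A' := (Flat.SpecMap_iff (f := k)).mp ‹_›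
  let P : CommRingCat.{u} := CommRingCat.of (B ⊗[A] A')
  let cL : B ⟶ P := CommRingCat.ofHom Algebra.TensorProduct.includeLeftRingHom
  let cR : A' ⟶ P := CommRingCat.ofHom (Algebra.TensorProduct.includeRight (R := A) (A := B) (B := A')).toRingHom
  have hP : k ≫ i ≫ cL = k ≫ cR := by
    ext a
    exact Algebra.TensorProduct.tmul_one_eq_one_tmul (R := A) (A := B) (B := A') a
  let x₀ : Spec P ⟶ S' := Spec.map cL ≫ jB ≫ D.obj.hom
  let x₁ : Spec P ⟶ S' := Spec.map cR ≫ jA'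
  have hx : x₀ ≫ g = x₁ ≫ g := by
    simp only [x₀, x₁, Category.assoc, ← reassoc_of% eq2, ← eq1]
    rw [← Spec.map_comp_assoc, ← Spec.map_comp_assoc, ← Spec.map_comp_assoc, hP]
  let v : Desc.Lifts D.obj x₀ := ⟨Spec.map cL ≫ jB, Category.assoc _ _ _⟩
  let v' := D.φ x₀ x₁ hx v
  have hr : Set.range v'.1 ⊆ Set.range jB := by
    rintro _ ⟨p, rfl⟩
    rw [φ_apply D x₀ x₁ hx v p]
    exact ⟨Spec.map cL p, rfl⟩
  let q₀ : Spec P ⟶ Spec B := IsOpenImmersion.lift jB v'.1 hr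
  have hq₀ : q₀ ≫ jB = v'.1 := IsOpenImmersion.lift_fac _ _ hr
  obtain ⟨β₀, hβ₀⟩ := Spec.map_surjective q₀
  have hq_i : Spec.map i ≫ 𝟙 _ = Spec.map i := Category.comp_id _
  have hiβ : i ≫ β₀ = cR := by
    apply Spec.map_injective
    rw [Spec.map_comp, hβ₀, ← cancel_mono jA', Category.assoc, eq2, ← Category.assoc, hq₀]
    exact v'.2
  have hA' : ∀ a : A', β₀.hom (algebraMap A' B a) = (1 : B) ⊗ₜ[A] a := fun a => congr($hiβ a)
  let β : B →ₐ[A] B ⊗[A] A' :=
    { β₀.hom with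
      commutes' := fun a => by
        show β₀.hom (algebraMap A' B (k.hom a)) = _
        rw [hA']
        exact (Algebra.TensorProduct.tmul_one_eq_one_tmul (R := A) (A := B) (B := A') a).symm }
  let M : P ⟶ B := CommRingCat.ofHom (Algebra.TensorProduct.lift (AlgHom.id A B) (IsScalarTower.toAlgHom A A' B)
    (fun _ _ => Commute.all _ _)).toRingHom
  have hM1 : cL ≫ M = 𝟙 B := by
    ext b
    refine (Algebra.TensorProduct.lift_tmul (R := A) (AlgHom.id A B) (IsScalarTower.toAlgHom A A' B) (fun _ _ => Commute.all _ _) b (1 : A')).trans ?_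
    rw [map_one, mul_one]
    rfl
  have hM2 : cR ≫ M = i := by
    ext a
    refine (Algebra.TensorProduct.lift_tmul (R := A) (AlgHom.id A B) (IsScalarTower.toAlgHom A A' B) (fun _ _ => Commute.all _ _) (1 : B) a).trans ?_
    rw [map_one, one_mul]
    rfl
  have hμ : β₀ ≫ M = 𝟙 B := by
    apply Spec.map_injective
    rw [Spec.map_comp, Spec.map_id, hβ₀, ← cancel_mono jB, Category.assoc, hq₀, Category.id_comp]
    have e := φ_nat D (Spec.map M) x₀ x₁ hx (jB ≫ D.obj.hom) (jB ≫ D.obj.hom)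
      (by simp only [x₀, ← Spec.map_comp_assoc, hM1, Spec.map_id, Category.id_comp])
      (by simp only [x₁, ← Spec.map_comp_assoc, hM2, eq2]) rfl v ⟨jB, rfl⟩
      (by simp only [v, ← Spec.map_comp_assoc, hM1, Spec.map_id, Category.id_comp])
    rw [D.φ_self] at e
    exact e.symm
  let R₂ : CommRingCat.{u} := CommRingCat.of ((B ⊗[A] A') ⊗[A] A')
  let M₁ : P ⟶ R₂ := CommRingCat.ofHom (Algebra.TensorProduct.map
    (Algebra.TensorProduct.includeLeft : B →ₐ[A] B ⊗[A] A') (AlgHom.id A A')).toRingHom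
  let M₂ : P ⟶ R₂ := CommRingCat.ofHom (Algebra.TensorProduct.map β (AlgHom.id A A')).toRingHom
  let p2 : P ⟶ R₂ := CommRingCat.ofHom Algebra.TensorProduct.includeLeftRingHom
  let c3 : A' ⟶ R₂ := CommRingCat.ofHom (Algebra.TensorProduct.includeRight (R := A) (A := B ⊗[A] A') (B := A')).toRingHom
  have a1 : cL ≫ M₁ = cL ≫ p2 := by
    ext b
    refine (Algebra.TensorProduct.map_tmul (R := A) _ _ b (1 : A')).trans ?_
    rfl
  have b1 : cR ≫ M₁ = c3 := by
    ext a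
    refine (Algebra.TensorProduct.map_tmul (R := A) _ _ (1 : B) a).trans ?_
    rfl
  have a2 : cL ≫ M₂ = β₀ ≫ p2 := by
    ext b
    refine (Algebra.TensorProduct.map_tmul (R := A) _ _ b (1 : A')).trans ?_
    rfl
  have b2 : cR ≫ M₂ = c3 := by
    ext a
    refine (Algebra.TensorProduct.map_tmul (R := A) _ _ (1 : B) a).trans ?_
    rw [map_one]
    rfl
  have hco : β₀ ≫ M₁ = β₀ ≫ M₂ := by
    apply Spec.map_injective
    rw [Spec.map_comp, Spec.map_comp, hβ₀, ← cancel_mono jB, Category.assoc, Category.assoc, hq₀]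
    let y₀ : Spec R₂ ⟶ S' := Spec.map p2 ≫ x₀
    let y₁ : Spec R₂ ⟶ S' := Spec.map p2 ≫ x₁
    let y₂ : Spec R₂ ⟶ S' := Spec.map c3 ≫ jA'
    have f10 : Spec.map M₁ ≫ x₀ = y₀ := by
      simp only [x₀, y₀, ← Spec.map_comp_assoc, a1]
    have f12 : Spec.map M₁ ≫ x₁ = y₂ := by
      simp only [x₁, y₂, ← Spec.map_comp_assoc, b1]
    have f20 : Spec.map M₂ ≫ x₀ = y₁ := by
      simp only [x₀, y₁, ← Spec.map_comp_assoc, a2]
      rw [Spec.map_comp, hβ₀, Category.assoc, reassoc_of% hq₀, v'.2]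
    have f22 : Spec.map M₂ ≫ x₁ = y₂ := by
      simp only [x₁, y₂, ← Spec.map_comp_assoc, b2]
    have h01 : y₀ ≫ g = y₁ ≫ g := by simp only [y₀, y₁, Category.assoc, hx]
    have h02 : y₀ ≫ g = y₂ ≫ g :=
      (congrArg (· ≫ g) f10).symm.trans (((Category.assoc _ _ _).trans
        ((congrArg (Spec.map M₁ ≫ ·) hx).trans (Category.assoc _ _ _).symm)).trans (congrArg (· ≫ g) f12))
    have h12 : y₁ ≫ g = y₂ ≫ g := h01.symm.trans h02
    let w : Desc.Lifts D.obj y₀ := ⟨Spec.map p2 ≫ v.1, by rw [Category.assoc, v.2]⟩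
    have e1 := φ_nat D (Spec.map M₁) x₀ x₁ hx y₀ y₂ f10 f12 h02 v w
      (by simp only [v, w, ← Spec.map_comp_assoc, a1])
    have e01 := φ_nat D (Spec.map p2) x₀ x₁ hx y₀ y₁ rfl rfl h01 v w rfl
    have e2 := φ_nat D (Spec.map M₂) x₀ x₁ hx y₁ y₂ f20 f22 h12 v (D.φ y₀ y₁ h01 w) (by
      rw [e01]
      show _ = Spec.map M₂ ≫ Spec.map cL ≫ jB
      rw [← Spec.map_comp_assoc, a2, Spec.map_comp, hβ₀, Category.assoc, hq₀])
    rw [D.φ_comp] at e2
    exact e1.symm.trans e2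
  have hbij := bijective_mul β hA' (fun b => congr($hμ b)) (fun b => congr($hco b))
  let B₀ : CommRingCat.{u} := CommRingCat.of (invariants β)
  let val : B₀ ⟶ B := CommRingCat.ofHom (invariants β).val.toRingHom
  let π₀ : Spec B ⟶ Spec B₀ := Spec.map val
  have hval : val ≫ β₀ = val ≫ cL := by
    ext b
    exact (b.2 : Algebra.TensorProduct.includeLeft b.1 = β b.1).symm
  let e : (A' ⊗[A] invariants β) ≃+* B := RingEquiv.ofBijective
    (Algebra.TensorProduct.lift (IsScalarTower.toAlgHom A A' B) (invariants β).val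
      (fun _ _ => Commute.all _ _)).toRingHom hbij
  let h₀ : Spec B₀ ⟶ Spec A := Spec.map (CommRingCat.ofHom (algebraMap A (invariants β)))
  have sq0 : IsPullback (Spec.map i) π₀ (Spec.map k) h₀ := by
    refine IsPullback.of_iso_pullback ⟨?_⟩ (asIso (Spec.map e.toCommRingCatIso.hom) ≪≫ (pullbackSpecIso A A' (invariants β)).symm) ?_ ?_
    · simp only [π₀, h₀, ← Spec.map_comp]
      rfl
    · simp only [Iso.trans_hom, Iso.symm_hom, asIso_hom, Category.assoc]
      show Spec.map _ ≫ (pullbackSpecIso A A' (invariants β)).inv ≫ pullback.fst _ _ = _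
      rw [pullbackSpecIso_inv_fst, ← Spec.map_comp]
      congr 1
      ext a
      refine (Algebra.TensorProduct.lift_tmul (R := A) (IsScalarTower.toAlgHom A A' B) (invariants β).val
        (fun _ _ => Commute.all _ _) a 1).trans ?_
      rw [map_one, mul_one]
      rfl
    · simp only [Iso.trans_hom, Iso.symm_hom, asIso_hom, Category.assoc]
      show Spec.map _ ≫ (pullbackSpecIso A A' (invariants β)).inv ≫ pullback.snd _ _ = _
      rw [pullbackSpecIso_inv_snd, ← Spec.map_comp]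
      congr 1
      ext a
      refine (Algebra.TensorProduct.lift_tmul (R := A) (IsScalarTower.toAlgHom A A' B) (invariants β).val
        (fun _ _ => Commute.all _ _) 1 a).trans ?_
      rw [map_one, one_mul]
      rfl
  have sqA : IsPullback (Spec.map k) jA' jA g := by
    have hr' : Set.range jA' = Set.range (pullback.snd jA g) := by
      rw [Scheme.Pullback.range_snd, hS₀.range_fromSpec, hS₀'.range_fromSpec]
      rfl
    refine IsPullback.of_iso_pullback ⟨eq1⟩ (IsOpenImmersion.isoOfRangeEq jA' (pullback.snd jA g) hr') ?_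
      (IsOpenImmersion.isoOfRangeEq_hom_fac _ _ _)
    rw [← cancel_mono jA, Category.assoc, pullback.condition, ← Category.assoc,
      IsOpenImmersion.isoOfRangeEq_hom_fac, eq1]
  have sq1 := sq0.flip.paste_vert sqA
  rw [eq2] at sq1
  refine ⟨Spec B₀, h₀ ≫ jA, hW.isoSpec.hom ≫ π₀, ?_, fun {T} y₀ y₁ hy u z z' hz hz' => ?_⟩
  · refine IsPullback.of_iso sq1 hW.isoSpec.symm (Iso.refl _) (Iso.refl _) (Iso.refl _) ?_ ?_ ?_ ?_
    · simp
    · simp [jB, hW.isoSpec_inv_ι_assoc]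
    · simp
    · simp
  · let z₀ := z ≫ hW.isoSpec.hom
    let z₁ := z' ≫ hW.isoSpec.hom
    have hz₀ : z₀ ≫ jB = u.1 := by rw [Category.assoc, IsAffineOpen.isoSpec_hom_fromSpec, hz]
    have hz₁ : z₁ ≫ jB = (D.φ y₀ y₁ hy u).1 := by rw [Category.assoc, IsAffineOpen.isoSpec_hom_fromSpec, hz']
    have h0 : (z₀ ≫ Spec.map i) ≫ jA' = y₀ := by rw [Category.assoc, eq2, ← Category.assoc, hz₀, u.2]
    have h1 : (z₁ ≫ Spec.map i) ≫ jA' = y₁ := by
      rw [Category.assoc, eq2, ← Category.assoc, hz₁, (D.φ y₀ y₁ hy u).2]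
    have hc : z₀ ≫ Spec.map (CommRingCat.ofHom (algebraMap A B)) =
        (z₁ ≫ Spec.map i) ≫ Spec.map (CommRingCat.ofHom (algebraMap A A')) := by
      show z₀ ≫ Spec.map (k ≫ i) = (z₁ ≫ Spec.map i) ≫ Spec.map k
      rw [Spec.map_comp, ← cancel_mono jA]
      simp only [Category.assoc, eq1]
      have := congrArg (· ≫ g) h0
      have := congrArg (· ≫ g) h1
      simp only [Category.assoc] at *
      simp_all
    let l : T ⟶ Spec P := pullback.lift z₀ (z₁ ≫ Spec.map i) hc ≫ (pullbackSpecIso A B A').hom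
    have hlL : l ≫ Spec.map cL = z₀ :=
      (Category.assoc _ _ _).trans ((congrArg (_ ≫ ·) (pullbackSpecIso_hom_fst A B A')).trans (pullback.lift_fst _ _ _))
    have hlR : l ≫ Spec.map cR = z₁ ≫ Spec.map i :=
      (Category.assoc _ _ _).trans ((congrArg (_ ≫ ·) (pullbackSpecIso_hom_snd A B A')).trans (pullback.lift_snd _ _ _))
    have el := φ_nat D l x₀ x₁ hx y₀ y₁
      (by simp only [x₀, ← Category.assoc, hlL, hz₀]; exact u.2)
      (by simp only [x₁, ← Category.assoc, hlR]; exact h1) hy v u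
      (by simp only [v, ← Category.assoc, hlL, hz₀])
    have hlq : l ≫ q₀ = z₁ := by
      rw [← cancel_mono jB, Category.assoc, hq₀, hz₁]
      exact el.symm
    rw [← Category.assoc, ← Category.assoc]
    show z₀ ≫ π₀ = z₁ ≫ π₀
    calc z₀ ≫ π₀ = (l ≫ Spec.map cL) ≫ Spec.map val := by rw [hlL]
      _ = l ≫ Spec.map (val ≫ cL) := by rw [Spec.map_comp]; exact Category.assoc _ _ _
      _ = l ≫ Spec.map (val ≫ β₀) := by rw [hval]
      _ = (l ≫ Spec.map β₀) ≫ Spec.map val := by rw [Spec.map_comp]; exact (Category.assoc _ _ _).symm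
      _ = z₁ ≫ π₀ := by rw [hβ₀, hlq]

end Groth.Agent.RadDescent
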