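import Groth.Agent.RadDescent.Affine

/-!
# Descent along flat, surjective, quasi-compact, universally injective morphisms
-/

set_option autoImplicit false
set_option backward.isDefEq.respectTransparency false
set_option backward.isDefEq.respectTransparency.types false
set_option linter.style.haveILetI false
universe u
open CategoryTheory CategoryTheory.Limits AlgebraicGeometry

namespace Groth.Agent.RadDescent

variable {S' S : Scheme.{u}} {g : S' ⟶ S} [Flat g] [Surjective g] [QuasiCompact g] [UniversallyInjective g]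
  (D : Desc.SchDD g)

theorem isAffineOpen_preimage {S₀ : S.Opens} (hS₀ : IsAffineOpen S₀) : IsAffineOpen (g ⁻¹ᵁ S₀) := by
  have hq := Flat.isQuotientMap_of_surjective g
  have hopen : IsOpenMap g.base := fun U hU => by
    rw [← hq.isOpen_preimage, Set.preimage_image_eq _ g.injective]
    exact hU
  have hh : IsHomeomorph g.base := ⟨g.continuous, hopen, g.injective, g.surjective⟩
  haveI : IsAffineHom g := isAffineHom_of_isInducing g hh.isInducing hh.isClosedEmbedding.isClosed_range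
  exact hS₀.preimage g

/-- Affine opens lying over an affine open of the base. -/
def Adapted (W : D.obj.left.Opens) : Prop :=
  IsAffineOpen W ∧ ∃ S₀ : S.Opens, IsAffineOpen S₀ ∧ W ≤ D.obj.hom ⁻¹ᵁ (g ⁻¹ᵁ S₀)

/-- The index type of adapted affine opens. -/
abbrev Idx := {W : D.obj.left.Opens // Adapted D W}

omit [Flat g] [Surjective g] [QuasiCompact g] [UniversallyInjective g] in
theorem exists_idx (x : D.obj.left) (U : D.obj.left.Opens) (hx : x ∈ U) :
    ∃ W : Idx D, x ∈ W.1 ∧ W.1 ≤ U := by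
  obtain ⟨S₀, hS₀, hx₀, -⟩ := exists_isAffineOpen_mem_and_subset (x := g (D.obj.hom x)) (U := ⊤) trivial
  obtain ⟨W, hW, hxW, hWU⟩ := exists_isAffineOpen_mem_and_subset (x := x)
    (U := U ⊓ D.obj.hom ⁻¹ᵁ (g ⁻¹ᵁ S₀)) ⟨hx, hx₀⟩
  exact ⟨⟨W, hW, S₀, hS₀, fun y hy => (hWU hy).2⟩, hxW, fun y hy => (hWU hy).1⟩

/-- A quotient of an adapted affine open. -/
structure Quot (W : Idx D) where
  /-- the quotient -/
  U : Scheme.{u}
  /-- structure map -/
  h : U ⟶ S
  /-- projection -/
  π : W.1.toScheme ⟶ U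
  isPullback : IsPullback π (W.1.ι ≫ D.obj.hom) h g
  inv : ∀ {T : Scheme.{u}} (x₀ x₁ : T ⟶ S') (hx : x₀ ≫ g = x₁ ≫ g) (v : Desc.Lifts D.obj x₀)
    (z z' : T ⟶ W.1.toScheme), z ≫ W.1.ι = v.1 → z' ≫ W.1.ι = (D.φ x₀ x₁ hx v).1 → z ≫ π = z' ≫ π

/-- A chosen quotient. -/
noncomputable def quot (W : Idx D) : Quot D W :=
  Classical.choice (by
    obtain ⟨S₀, hS₀, hle⟩ := W.2.2
    obtain ⟨U₀, h₀, π, hp, hi⟩ := exists_quotient D S₀ hS₀ (isAffineOpen_preimage hS₀) W.1 W.2.1 hle
    exact ⟨⟨U₀, h₀, π, hp, hi⟩⟩)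

instance flat_π (W : Idx D) : Flat (quot D W).π :=
  MorphismProperty.of_isPullback (P := @Flat) (quot D W).isPullback.flip ‹_›

instance surjective_π (W : Idx D) : Surjective (quot D W).π :=
  MorphismProperty.of_isPullback (P := @Surjective) (quot D W).isPullback.flip ‹_›

instance quasiCompact_π (W : Idx D) : QuasiCompact (quot D W).π :=
  MorphismProperty.of_isPullback (P := @QuasiCompact) (quot D W).isPullback.flip ‹_›

instance universallyInjective_π (W : Idx D) : UniversallyInjective (quot D W).π :=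
  MorphismProperty.of_isPullback (P := @UniversallyInjective) (quot D W).isPullback.flip ‹_›

theorem exists_eq_φ (W : Idx D) {T : Scheme.{u}} (a b : T ⟶ W.1.toScheme)
    (e : a ≫ (quot D W).π = b ≫ (quot D W).π) :
    ∃ hx, b ≫ W.1.ι = (D.φ ((a ≫ W.1.ι) ≫ D.obj.hom) ((b ≫ W.1.ι) ≫ D.obj.hom) hx ⟨a ≫ W.1.ι, rfl⟩).1 := by
  have hw := (quot D W).isPullback.w
  have hx : ((a ≫ W.1.ι) ≫ D.obj.hom) ≫ g = ((b ≫ W.1.ι) ≫ D.obj.hom) ≫ g := by
    have := congrArg (· ≫ (quot D W).h) e
    simp only [Category.assoc, hw] at this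
    simpa only [Category.assoc] using this
  refine ⟨hx, ?_⟩
  let v : Desc.Lifts D.obj ((a ≫ W.1.ι) ≫ D.obj.hom) := ⟨a ≫ W.1.ι, rfl⟩
  have hr : Set.range (D.φ _ ((b ≫ W.1.ι) ≫ D.obj.hom) hx v).1 ⊆ Set.range W.1.ι := by
    rintro _ ⟨t, rfl⟩
    rw [φ_apply D _ _ hx v t]
    exact ⟨a t, rfl⟩
  let z := IsOpenImmersion.lift W.1.ι _ hr
  have hz : z ≫ W.1.ι = (D.φ _ ((b ≫ W.1.ι) ≫ D.obj.hom) hx v).1 := IsOpenImmersion.lift_fac _ _ hr
  have hzb : z = b := by
    apply (quot D W).isPullback.hom_ext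
    · exact ((quot D W).inv _ _ hx v a z rfl hz).symm.trans e
    · rw [← Category.assoc, hz, (D.φ _ _ hx v).2, Category.assoc]
  exact (congrArg (· ≫ W.1.ι) hzb.symm).trans hz

theorem trans_cond {W W' : Idx D} (h : W.1 ≤ W'.1) {Z : Scheme.{u}} (a b : Z ⟶ W.1.toScheme)
    (e : a ≫ (quot D W).π = b ≫ (quot D W).π) :
    a ≫ D.obj.left.homOfLE h ≫ (quot D W').π = b ≫ D.obj.left.homOfLE h ≫ (quot D W').π := by
    obtain ⟨hx, hb⟩ := exists_eq_φ D W a b e
    rw [← Category.assoc, ← Category.assoc]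
    refine (quot D W').inv _ _ hx ⟨a ≫ W.1.ι, rfl⟩ (a ≫ D.obj.left.homOfLE h) (b ≫ D.obj.left.homOfLE h) ?_ ?_
    · simp
    · simpa using hb

/-- Transition maps of quotients. -/
noncomputable def trans {W W' : Idx D} (h : W.1 ≤ W'.1) : (quot D W).U ⟶ (quot D W').U :=
  EffectiveEpi.desc (quot D W).π (D.obj.left.homOfLE h ≫ (quot D W').π) (trans_cond D h)

@[reassoc]
theorem π_trans {W W' : Idx D} (h : W.1 ≤ W'.1) :
    (quot D W).π ≫ trans D h = D.obj.left.homOfLE h ≫ (quot D W').π :=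
  EffectiveEpi.fac _ _ (trans_cond D h)

theorem trans_h {W W' : Idx D} (h : W.1 ≤ W'.1) : trans D h ≫ (quot D W').h = (quot D W).h := by
  rw [← cancel_epi (quot D W).π, π_trans_assoc, (quot D W').isPullback.w, (quot D W).isPullback.w]
  simp

theorem isPullback_trans {W W' : Idx D} (h : W.1 ≤ W'.1) :
    IsPullback (D.obj.left.homOfLE h) (quot D W).π (quot D W').π (trans D h) := by
  refine IsPullback.of_right ?_ (π_trans D h).symm (quot D W').isPullback.flip
  rw [trans_h, Scheme.homOfLE_ι_assoc]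
  exact (quot D W).isPullback.flip

instance isOpenImmersion_trans {W W' : Idx D} (h : W.1 ≤ W'.1) : IsOpenImmersion (trans D h) :=
  MorphismProperty.of_isPullback_of_descendsAlong (P := @IsOpenImmersion)
    (Q := @Surjective ⊓ @Flat ⊓ @QuasiCompact) (isPullback_trans D h)
    ⟨⟨inferInstance, inferInstance⟩, inferInstance⟩ inferInstance

/-- The diagram of quotients. -/
noncomputable def diagram : Idx D ⥤ Scheme.{u} where
  obj W := (quot D W).U
  map f := trans D (leOfHom f)
  map_id W := by rw [← cancel_epi (quot D W).π, π_trans]; simp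
  map_comp f f' := by
    rw [← cancel_epi (quot D _).π, π_trans, π_trans_assoc, π_trans]
    simp

instance isOpenImmersion_map {i j : Idx D} (f : i ⟶ j) : IsOpenImmersion ((diagram D).map f) :=
  isOpenImmersion_trans D _

theorem π_trans_apply {W W' : Idx D} (h : W.1 ≤ W'.1) (y : W.1.toScheme) :
    trans D h ((quot D W).π y) = (quot D W').π (D.obj.left.homOfLE h y) :=
  congr($(π_trans D h) y)

instance isLocallyDirected : ((diagram D) ⋙ Scheme.forget).IsLocallyDirected where
  cond {i j k} fi fj xi xj hxij := by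
    obtain ⟨yi, hyi⟩ := (quot D i).π.surjective xi
    obtain ⟨yj, hyj⟩ := (quot D j).π.surjective xj
    subst hyi hyj
    have h1 : trans D (leOfHom fi) ((quot D i).π yi) = trans D (leOfHom fj) ((quot D j).π yj) := hxij
    rw [π_trans_apply, π_trans_apply] at h1
    have h2 := congrArg Subtype.val ((quot D k).π.injective h1)
    have h3 : yi.1 = yj.1 :=
      (Scheme.homOfLE_apply _ yi).symm.trans (h2.trans (Scheme.homOfLE_apply _ yj))
    obtain ⟨l, hl, hle⟩ := exists_idx D yi.1 (i.1 ⊓ j.1) ⟨yi.2, by rw [h3]; exact yj.2⟩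
    refine ⟨l, homOfLE (fun y hy => (hle hy).1), homOfLE (fun y hy => (hle hy).2), (quot D l).π ⟨yi.1, hl⟩, ?_, ?_⟩
    · exact (π_trans_apply D _ _).trans (congrArg _ (Subtype.ext (Scheme.homOfLE_apply _ _)))
    · exact (π_trans_apply D _ _).trans (congrArg _ (Subtype.ext ((Scheme.homOfLE_apply _ _).trans h3)))

/-- The glued quotient. -/
noncomputable def total : Scheme.{u} := colimit (diagram D)

/-- Its structure map. -/
noncomputable def totalHom : total D ⟶ S :=
  colimit.desc (diagram D) ⟨S, { app := fun W => (quot D W).h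
                                 naturality := fun W W' f => (trans_h D (leOfHom f)).trans (Category.comp_id _).symm }⟩

/-- Inclusion of a quotient. -/
noncomputable def incl (W : Idx D) : (quot D W).U ⟶ total D := colimit.ι (diagram D) W

instance isOpenImmersion_incl (W : Idx D) : IsOpenImmersion (incl D W) :=
  inferInstanceAs (IsOpenImmersion (colimit.ι (diagram D) W))

@[reassoc]
theorem incl_totalHom (W : Idx D) : incl D W ≫ totalHom D = (quot D W).h := colimit.ι_desc _ _

@[reassoc]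
theorem trans_incl {W W' : Idx D} (h : W.1 ≤ W'.1) : trans D h ≫ incl D W' = incl D W :=
  colimit.w (diagram D) (homOfLE (show W ≤ W' from h))

/-- The cover of the total space by adapted affine opens. -/
noncomputable def idxCover : D.obj.left.OpenCover where
  I₀ := Idx D
  X W := W.1
  f W := W.1.ι
  mem₀ := by
    rw [Scheme.presieve₀_mem_precoverage_iff]
    refine ⟨fun x => ?_, inferInstance⟩
    obtain ⟨W, hW, -⟩ := exists_idx D x ⊤ trivial
    exact ⟨W, ⟨x, hW⟩, rfl⟩

theorem π_incl_eq {W l : Idx D} (hl : l.1 ≤ W.1) {T : Scheme.{u}} (q : T ⟶ l.1.toScheme)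
    (p : T ⟶ W.1.toScheme) (h : q ≫ l.1.ι = p ≫ W.1.ι) :
    p ≫ (quot D W).π ≫ incl D W = q ≫ (quot D l).π ≫ incl D l := by
  have hp : p = q ≫ D.obj.left.homOfLE hl := by
    rw [← cancel_mono W.1.ι, Category.assoc, Scheme.homOfLE_ι, h]
  rw [hp, Category.assoc, ← π_trans_assoc, trans_incl]

/-- The projection. -/
noncomputable def proj : D.obj.left ⟶ total D :=
  (idxCover D).glueMorphisms (fun W => (quot D W).π ≫ incl D W) fun W W' => by
    let p : pullback W.1.ι W'.1.ι ⟶ D.obj.left := pullback.fst _ _ ≫ W.1.ι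
    apply Scheme.hom_ext_of_forall
    intro x
    obtain ⟨l, hl, hle⟩ := exists_idx D (p x) (W.1 ⊓ W'.1) ⟨(pullback.fst W.1.ι W'.1.ι x).2, by
      show (pullback.fst W.1.ι W'.1.ι ≫ W.1.ι) x ∈ W'.1
      rw [pullback.condition]
      exact (pullback.snd W.1.ι W'.1.ι x).2⟩
    refine ⟨p ⁻¹ᵁ l.1, hl, ?_⟩
    have hq : (p ∣_ l.1) ≫ l.1.ι = (p ⁻¹ᵁ l.1).ι ≫ p := morphismRestrict_ι p l.1
    have e1 := π_incl_eq D (fun y hy => (hle hy).1 : l.1 ≤ W.1) (p ∣_ l.1) ((p ⁻¹ᵁ l.1).ι ≫ pullback.fst W.1.ι W'.1.ι)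
      (hq.trans (Category.assoc _ _ _).symm)
    have e2 := π_incl_eq D (fun y hy => (hle hy).2 : l.1 ≤ W'.1) (p ∣_ l.1) ((p ⁻¹ᵁ l.1).ι ≫ pullback.snd W.1.ι W'.1.ι)
      (hq.trans (by rw [Category.assoc, ← pullback.condition]))
    simp only [Category.assoc] at e1 e2
    exact e1.trans e2.symm

@[reassoc]
theorem ι_proj (W : Idx D) : W.1.ι ≫ proj D = (quot D W).π ≫ incl D W :=
  (idxCover D).ι_glueMorphisms _ _ W

theorem proj_totalHom : proj D ≫ totalHom D = D.obj.hom ≫ g := by
  apply Scheme.Cover.hom_ext (idxCover D)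
  intro W
  show W.1.ι ≫ _ = W.1.ι ≫ _
  rw [ι_proj_assoc, incl_totalHom, (quot D W).isPullback.w, Category.assoc]

theorem proj_apply (W : Idx D) (y : W.1.toScheme) : proj D y.1 = incl D W ((quot D W).π y) :=
  congr($(ι_proj D W) y)

theorem proj_surjective : Function.Surjective (proj D) := fun u => by
  obtain ⟨W, y, hy⟩ := Scheme.IsLocallyDirected.ι_jointly_surjective (diagram D) u
  obtain ⟨z, rfl⟩ := (quot D W).π.surjective y
  exact ⟨z.1, (proj_apply D W z).trans hy⟩

theorem proj_injective : Function.Injective (proj D) := fun x y h => by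
  obtain ⟨W, hxW, -⟩ := exists_idx D x ⊤ trivial
  obtain ⟨W', hyW, -⟩ := exists_idx D y ⊤ trivial
  have h' : incl D W ((quot D W).π ⟨x, hxW⟩) = incl D W' ((quot D W').π ⟨y, hyW⟩) :=
    (proj_apply D W ⟨x, hxW⟩).symm.trans (h.trans (proj_apply D W' ⟨y, hyW⟩))
  obtain ⟨l, fi, fj, z, hzi, hzj⟩ := (Scheme.IsLocallyDirected.ι_eq_ι_iff (diagram D)).mp h'
  obtain ⟨c, rfl⟩ := (quot D l).π.surjective z
  have e1 := congrArg Subtype.val ((quot D W).π.injective ((π_trans_apply D (leOfHom fi) c).symm.trans hzi))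
  have e2 := congrArg Subtype.val ((quot D W').π.injective ((π_trans_apply D (leOfHom fj) c).symm.trans hzj))
  exact ((Scheme.homOfLE_apply _ c).symm.trans e1).symm.trans ((Scheme.homOfLE_apply _ c).symm.trans e2)

theorem φ_proj {T : Scheme.{u}} (x₀ x₁ : T ⟶ S') (hx : x₀ ≫ g = x₁ ≫ g) (v : Desc.Lifts D.obj x₀) :
    (D.φ x₀ x₁ hx v).1 ≫ proj D = v.1 ≫ proj D := by
  apply Scheme.hom_ext_of_forall
  intro t
  obtain ⟨W, hW, -⟩ := exists_idx D (v.1 t) ⊤ trivial
  let U := v.1 ⁻¹ᵁ W.1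
  refine ⟨U, hW, ?_⟩
  have hx' : (U.ι ≫ x₀) ≫ g = (U.ι ≫ x₁) ≫ g := by rw [Category.assoc, Category.assoc, hx]
  let v' : Desc.Lifts D.obj (U.ι ≫ x₀) := ⟨U.ι ≫ v.1, by rw [Category.assoc, v.2]⟩
  have hφ := D.φ_natural U.ι x₀ x₁ hx hx' v v' rfl
  have hr : Set.range (D.φ _ _ hx' v').1 ⊆ Set.range W.1.ι := by
    rintro _ ⟨s, rfl⟩
    rw [φ_apply D _ _ hx' v' s]
    exact ⟨(v.1 ∣_ W.1) s, congr($(morphismRestrict_ι v.1 W.1) s)⟩
  let z' := IsOpenImmersion.lift W.1.ι _ hr
  have hz' : z' ≫ W.1.ι = (D.φ _ _ hx' v').1 := IsOpenImmersion.lift_fac _ _ hr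
  have hz : (v.1 ∣_ W.1) ≫ W.1.ι = v'.1 := morphismRestrict_ι v.1 W.1
  have hi := (quot D W).inv _ _ hx' v' _ z' hz hz'
  calc U.ι ≫ (D.φ x₀ x₁ hx v).1 ≫ proj D = (z' ≫ W.1.ι) ≫ proj D := by rw [hz', hφ, Category.assoc]
    _ = (z' ≫ (quot D W).π) ≫ incl D W := by simp only [Category.assoc, ι_proj]
    _ = ((v.1 ∣_ W.1) ≫ (quot D W).π) ≫ incl D W := by rw [hi]
    _ = ((v.1 ∣_ W.1) ≫ W.1.ι) ≫ proj D := by simp only [Category.assoc, ι_proj]
    _ = U.ι ≫ v.1 ≫ proj D := by rw [hz]; exact Category.assoc _ _ _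

/-- The comparison map to the base change of the glued quotient. -/
noncomputable def comparison : D.obj.left ⟶ pullback g (totalHom D) :=
  pullback.lift D.obj.hom (proj D) (proj_totalHom D).symm

theorem comparison_snd : comparison D ≫ pullback.snd g (totalHom D) = proj D := pullback.lift_snd _ _ _

theorem comparison_fst : comparison D ≫ pullback.fst g (totalHom D) = D.obj.hom := pullback.lift_fst _ _ _

theorem isPullback_ι_comparison (W : Idx D) :
    IsPullback (quot D W).π (W.1.ι ≫ comparison D) (incl D W) (pullback.snd g (totalHom D)) := by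
  refine IsPullback.of_bot ?_ ?_ (IsPullback.of_hasPullback g (totalHom D)).flip
  · rw [Category.assoc, comparison_fst, incl_totalHom]
    exact (quot D W).isPullback
  · rw [Category.assoc, comparison_snd, ι_proj]

instance isIso_comparison : IsIso (comparison D) := by
  have hsnd : UniversallyInjective (pullback.snd g (totalHom D)) :=
    MorphismProperty.pullback_snd _ _ ‹_›
  have hcomp : ∀ x, pullback.snd g (totalHom D) (comparison D x) = proj D x := fun x =>
    congr($(comparison_snd D) x)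
  haveI : IsOpenImmersion (comparison D) := by
    refine IsOpenImmersion.of_openCover_source _ (idxCover D)
      (fun x y h => proj_injective D (((hcomp x).symm.trans (congrArg _ h)).trans (hcomp y))) fun W => ?_
    exact MorphismProperty.of_isPullback (P := @IsOpenImmersion) (isPullback_ι_comparison D W) inferInstance
  rw [isIso_iff_isOpenImmersion_and_surjective]
  refine ⟨inferInstance, ⟨fun p => ?_⟩⟩
  obtain ⟨x, hx⟩ := proj_surjective D (pullback.snd g (totalHom D) p)
  exact ⟨x, (pullback.snd g (totalHom D)).injective ((hcomp x).trans hx)⟩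

theorem exists_iso : ∃ U : Over S, Nonempty ((Desc.toDD g).obj U ≅ D) := by
  refine ⟨Over.mk (totalHom D), ⟨Iso.symm ?_⟩⟩
  let e : D.obj ≅ (Desc.canonicalDD g (Over.mk (totalHom D))).obj :=
    Over.isoMk (asIso (comparison D)) (comparison_fst D)
  let f : D ⟶ (Desc.toDD g).obj (Over.mk (totalHom D)) :=
    ⟨e.hom, fun T x₀ x₁ hx v w hw => by
      apply pullback.hom_ext
      · refine (pullback.lift_fst _ _ _).trans ?_
        rw [Category.assoc]
        exact ((D.φ x₀ x₁ hx v).2).symm.trans (congrArg _ (comparison_fst D).symm)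
      · refine (pullback.lift_snd _ _ _).trans ?_
        rw [Category.assoc]
        show w.1 ≫ pullback.snd g (totalHom D) = (D.φ x₀ x₁ hx v).1 ≫ comparison D ≫ pullback.snd g (totalHom D)
        rw [comparison_snd, φ_proj, hw, Category.assoc]
        exact congrArg _ (comparison_snd D)⟩
  refine ⟨f, ⟨e.inv, fun T x₀ x₁ hx v w hw => ?_⟩, Desc.SchDD.hom_ext ?_, Desc.SchDD.hom_ext ?_⟩
  · have h := f.comm x₀ x₁ hx w v
      ((congrArg (· ≫ e.hom.left) hw).trans ((Category.assoc _ _ _).trans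
        ((congrArg (fun k => v.1 ≫ k.left) e.inv_hom_id).trans (Category.comp_id _)))).symm
    exact ((congrArg (· ≫ e.inv.left) h).trans ((Category.assoc _ _ _).trans
        ((congrArg (fun k => (D.φ x₀ x₁ hx w).1 ≫ k.left) e.hom_inv_id).trans (Category.comp_id _)))).symm
  · exact e.hom_inv_id
  · exact e.inv_hom_id

end Groth.Agent.RadDescent
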